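import Mathlib
import Cfsg.Prelude.Def_Classical
import Cfsg.Agent.Helper17.O73.Mat

/-!
# Eight negated reflections in `O₇(3)` satisfying the relations of the `O₇(3)`-subgroup of `Fi₂₂`

The matrices `letN l` (`l < 8`) are `-r_v` for vectors `v` of norm `-1` in the quadratic space of
`Cfsg.quadFormOdd 3 (ZMod 3)`; they are involutions and isometries, packaged as elements `gO l` of
the isometry group; `evN`/`evG` evaluate words and `coe_evG` is the bridge.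
-/

set_option autoImplicit false
set_option linter.all false

namespace Cfsg.Agent.Helper17.O73

open Matrix

/-- the index type of `Cfsg.quadFormOdd 3`. -/
abbrev I7 : Type := Unit ⊕ (Fin 3 ⊕ Fin 3)

/-- coordinates: `0` for the anisotropic vector, `1, 2, 3` and `4, 5, 6` for the hyperbolic pairs. -/
def e7 : I7 ≃ Fin 7 where
  toFun
    | .inl _ => 0
    | .inr (.inl i) => ⟨1 + i.val, by omega⟩
    | .inr (.inr i) => ⟨4 + i.val, by omega⟩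
  invFun j :=
    if h : j.val = 0 then .inl ()
    else if h2 : j.val < 4 then .inr (.inl ⟨j.val - 1, by omega⟩)
    else .inr (.inr ⟨j.val - 4, by omega⟩)
  left_inv := by decide
  right_inv := by decide

/-- the matrix on `I7` described by the data. -/
def toMatI (A : M7) : Matrix I7 I7 (ZMod 3) := (toMat A).submatrix e7 e7

theorem toMatI_mul (A B : M7) : toMatI (A.mul B) = toMatI A * toMatI B := by
  unfold toMatI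
  rw [toMat_mul, Matrix.submatrix_mul_equiv]

theorem toMatI_one : toMatI M7.one = 1 := by
  unfold toMatI
  rw [toMat_one, Matrix.submatrix_one_equiv]

theorem toMatI_tr (A : M7) : toMatI A.tr = (toMatI A)ᵀ := by
  unfold toMatI
  rw [toMat_tr, Matrix.transpose_submatrix]

/-- Gram matrix of the polar form of `quadFormOdd 3`. -/
def SN : M7 :=
  ⟨⟨2, 0, 0, 0, 0, 0, 0⟩, ⟨0, 0, 0, 0, 1, 0, 0⟩, ⟨0, 0, 0, 0, 0, 1, 0⟩, ⟨0, 0, 0, 0, 0, 0, 1⟩, ⟨0, 1, 0, 0, 0, 0, 0⟩, ⟨0, 0, 1, 0, 0, 0, 0⟩, ⟨0, 0, 0, 1, 0, 0, 0⟩⟩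

theorem two_quad_eq (u : I7 → ZMod 3) :
    2 * Cfsg.quadFormOdd 3 (ZMod 3) u = u ⬝ᵥ (toMatI SN *ᵥ u) := by
  simp only [Cfsg.quadFormOdd, dotProduct, Matrix.mulVec, Fintype.sum_sum_type, Fin.sum_univ_three,
    Finset.univ_unique, Finset.sum_singleton]
  simp [toMatI, toMat_apply, SN, e7, M7.row, M7.rowN, V7.get, V7.getN]
  ring

/-- a matrix with `Mᵀ S M = S` preserves the quadratic form. -/
theorem quad_pres {M : Matrix I7 I7 (ZMod 3)} (h : Mᵀ * toMatI SN * M = toMatI SN)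
    (u : I7 → ZMod 3) : Cfsg.quadFormOdd 3 (ZMod 3) (M *ᵥ u) = Cfsg.quadFormOdd 3 (ZMod 3) u := by
  have h2 : (2 : ZMod 3) ≠ 0 := by decide
  apply mul_left_cancel₀ h2
  rw [two_quad_eq, two_quad_eq]
  have e1 : toMatI SN *ᵥ (M *ᵥ u) = (toMatI SN * M) *ᵥ u := by rw [Matrix.mulVec_mulVec]
  have e2 : M *ᵥ u = u ᵥ* Mᵀ := by rw [Matrix.vecMul_transpose]
  rw [e1, Matrix.dotProduct_mulVec, e2, Matrix.vecMul_vecMul, ← Matrix.mul_assoc, h,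
    ← Matrix.dotProduct_mulVec]

/-- the eight generator matrices (letters `0, …, 7` for `b, …, i`). -/
def letN : ℕ → M7
  | 0 => ⟨⟨2, 0, 0, 0, 0, 0, 0⟩, ⟨0, 1, 1, 1, 2, 0, 1⟩, ⟨0, 0, 2, 0, 0, 0, 0⟩, ⟨0, 1, 2, 1, 1, 0, 2⟩, ⟨0, 2, 1, 1, 1, 0, 1⟩, ⟨0, 1, 2, 2, 1, 2, 2⟩, ⟨0, 1, 2, 2, 1, 0, 1⟩⟩
  | 1 => ⟨⟨0, 0, 2, 1, 0, 0, 1⟩, ⟨0, 2, 0, 0, 0, 0, 0⟩, ⟨0, 0, 2, 0, 0, 0, 0⟩, ⟨2, 0, 1, 1, 0, 0, 2⟩, ⟨0, 0, 0, 0, 2, 0, 0⟩, ⟨1, 0, 2, 1, 0, 2, 1⟩, ⟨2, 0, 1, 2, 0, 0, 1⟩⟩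
  | 2 => ⟨⟨2, 0, 0, 0, 0, 0, 0⟩, ⟨0, 1, 1, 0, 2, 1, 0⟩, ⟨0, 1, 1, 0, 1, 2, 0⟩, ⟨0, 0, 0, 2, 0, 0, 0⟩, ⟨0, 2, 1, 0, 1, 1, 0⟩, ⟨0, 1, 2, 0, 1, 1, 0⟩, ⟨0, 0, 0, 0, 0, 0, 2⟩⟩
  | 3 => ⟨⟨0, 0, 2, 2, 1, 0, 2⟩, ⟨2, 2, 1, 1, 2, 0, 1⟩, ⟨0, 0, 2, 0, 0, 0, 0⟩, ⟨1, 0, 2, 1, 1, 0, 2⟩, ⟨0, 0, 0, 0, 2, 0, 0⟩, ⟨1, 0, 2, 2, 1, 2, 2⟩, ⟨1, 0, 2, 2, 1, 0, 1⟩⟩
  | 4 => ⟨⟨0, 0, 1, 2, 1, 0, 2⟩, ⟨2, 2, 2, 1, 2, 0, 1⟩, ⟨0, 0, 2, 0, 0, 0, 0⟩, ⟨1, 0, 1, 1, 1, 0, 2⟩, ⟨0, 0, 0, 0, 2, 0, 0⟩, ⟨2, 0, 2, 1, 2, 2, 1⟩, ⟨1, 0, 1, 2, 1, 0, 1⟩⟩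
  | 5 => ⟨⟨0, 1, 2, 2, 2, 1, 0⟩, ⟨1, 0, 2, 2, 2, 1, 0⟩, ⟨2, 2, 0, 1, 1, 2, 0⟩, ⟨0, 0, 0, 2, 0, 0, 0⟩, ⟨2, 2, 1, 1, 0, 2, 0⟩, ⟨1, 1, 2, 2, 2, 0, 0⟩, ⟨1, 1, 2, 2, 2, 1, 2⟩⟩
  | 6 => ⟨⟨0, 2, 2, 0, 2, 0, 1⟩, ⟨1, 1, 2, 0, 2, 0, 1⟩, ⟨0, 0, 2, 0, 0, 0, 0⟩, ⟨2, 1, 1, 2, 1, 0, 2⟩, ⟨1, 2, 2, 0, 1, 0, 1⟩, ⟨1, 2, 2, 0, 2, 2, 1⟩, ⟨0, 0, 0, 0, 0, 0, 2⟩⟩
  | _ => ⟨⟨0, 2, 1, 1, 2, 0, 0⟩, ⟨1, 1, 1, 1, 2, 0, 0⟩, ⟨0, 0, 2, 0, 0, 0, 0⟩, ⟨0, 0, 0, 2, 0, 0, 0⟩, ⟨1, 2, 1, 1, 1, 0, 0⟩, ⟨2, 1, 2, 2, 1, 2, 0⟩, ⟨2, 1, 2, 2, 1, 0, 2⟩⟩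

theorem letN_sq : ∀ l < 8, ((letN l).mul (letN l)).beq M7.one = true := by decide

theorem letN_iso : ∀ l < 8, (((letN l).tr.mul SN).mul (letN l)).beq SN = true := by decide

/-- reduce an arbitrary letter to `0, …, 7`. -/
def cl (l : ℕ) : ℕ := if l < 8 then l else 7

theorem cl_lt (l : ℕ) : cl l < 8 := by unfold cl; split <;> omega

theorem letN_cl (l : ℕ) : letN (cl l) = letN l := by
  unfold cl
  split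
  · rfl
  · rename_i h
    have : ∃ k, l = k + 8 := ⟨l - 8, by omega⟩
    obtain ⟨k, rfl⟩ := this
    rfl

theorem toMatI_letN_sq (l : ℕ) : toMatI (letN l) * toMatI (letN l) = 1 := by
  rw [← letN_cl, ← toMatI_mul, M7.eq_of_beq (letN_sq _ (cl_lt l)), toMatI_one]

/-- the generators in `GL₇(3)`. -/
def gGL (l : ℕ) : GL I7 (ZMod 3) :=
  ⟨toMatI (letN l), toMatI (letN l), toMatI_letN_sq l, toMatI_letN_sq l⟩

theorem gGL_mem (l : ℕ) : gGL l ∈ Cfsg.isometryGroup (ZMod 3) (Cfsg.quadFormOdd 3 (ZMod 3)) := by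
  intro u _
  show Cfsg.quadFormOdd 3 (ZMod 3) (toMatI (letN l) *ᵥ u) = Cfsg.quadFormOdd 3 (ZMod 3) u
  apply quad_pres
  rw [← letN_cl, ← toMatI_tr, ← toMatI_mul, ← toMatI_mul, M7.eq_of_beq (letN_iso _ (cl_lt l))]

/-- the generators in the isometry group. -/
def gO (l : ℕ) : ↥(Cfsg.isometryGroup (ZMod 3) (Cfsg.quadFormOdd 3 (ZMod 3))) := ⟨gGL l, gGL_mem l⟩

theorem gO_mul_self (l : ℕ) : gO l * gO l = 1 := by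
  apply Subtype.ext
  apply Units.ext
  exact toMatI_letN_sq l

/-- product of a word on the data. -/
def evN : List ℕ → M7
  | [] => M7.one
  | a :: w => (letN a).mul (evN w)

/-- product of a word in the isometry group. -/
def evG (w : List ℕ) : ↥(Cfsg.isometryGroup (ZMod 3) (Cfsg.quadFormOdd 3 (ZMod 3))) :=
  (w.map gO).prod

theorem coe_evG (w : List ℕ) :
    (((evG w : ↥(Cfsg.isometryGroup (ZMod 3) (Cfsg.quadFormOdd 3 (ZMod 3)))) : GL I7 (ZMod 3)) :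
      Matrix I7 I7 (ZMod 3)) = toMatI (evN w) := by
  induction w with
  | nil => simp [evG, evN, toMatI_one]
  | cons a w ih =>
    have : evG (a :: w) = gO a * evG w := by simp [evG]
    rw [this, Subgroup.coe_mul, Units.val_mul, ih, evN, toMatI_mul]
    rfl

theorem evG_eq_one {w : List ℕ} (h : (evN w).beq M7.one = true) : evG w = 1 := by
  apply Subtype.ext
  apply Units.ext
  rw [coe_evG, M7.eq_of_beq h, toMatI_one]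
  rfl

theorem evG_append (u v : List ℕ) : evG (u ++ v) = evG u * evG v := by
  simp [evG]

theorem evG_replicate (k : ℕ) (u : List ℕ) : evG (List.replicate k u).flatten = evG u ^ k := by
  induction k with
  | zero => simp [evG]
  | succ k ih => rw [List.replicate_succ, List.flatten_cons, evG_append, ih, pow_succ']

theorem gO_ne_one : gO 0 ≠ 1 := by
  intro h
  have h1 : (((gO 0 : ↥(Cfsg.isometryGroup (ZMod 3) (Cfsg.quadFormOdd 3 (ZMod 3)))) :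
      GL I7 (ZMod 3)) : Matrix I7 I7 (ZMod 3)) (.inl ()) (.inl ()) =
      (1 : Matrix I7 I7 (ZMod 3)) (.inl ()) (.inl ()) := by
    rw [h]; rfl
  have h2 : toMatI (letN 0) (.inl ()) (.inl ()) = 2 := by
    simp [toMatI, toMat_apply, letN, e7, M7.row, M7.rowN, V7.get, V7.getN]
  have h3 : (((gO 0 : ↥(Cfsg.isometryGroup (ZMod 3) (Cfsg.quadFormOdd 3 (ZMod 3)))) :
      GL I7 (ZMod 3)) : Matrix I7 I7 (ZMod 3)) (.inl ()) (.inl ()) = 2 := h2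
  rw [h3] at h1
  simp at h1
  revert h1
  decide

end Cfsg.Agent.Helper17.O73
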