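import Mathlib
import Cfsg.Prelude.Def_Classical
import Cfsg.Agent.Helper17.O73.Gens
import Cfsg.Agent.Helper17.FiQ1Ord.Simple
import Cfsg.Agent.Helper17.Fi22Ord.Lower
import Cfsg.Agent.S0292

/-!
# The `O₇(3)`-subgroup of the presented `Fi₂₂`

The sub-presentation `FiQ1` (nodes `b, …, i` of the `Fi₂₂` diagram with the two extra relators) is a
simple group of order `4585351680`; eight negated reflections of the 7-dimensional orthogonal space
over `𝔽₃` satisfy its relators, which gives a homomorphism to the isometry group with image inside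
the commutator subgroup; passing to `PΩ₇(3)` it is injective by simplicity and bijective by counting.
-/

set_option autoImplicit false
set_option linter.all false

noncomputable section

namespace Cfsg.Agent.Helper17.O73

open Cfsg.Spor Cfsg.Agent.Helper17.FiSub

/-- the isometry group. -/
abbrev IsoG : Type := ↥(Cfsg.isometryGroup (ZMod 3) (Cfsg.quadFormOdd 3 (ZMod 3)))

/-- numbering of the nodes. -/
def idx : FiQ1.Gen → ℕ
  | .b => 0
  | .c => 1
  | .d => 2
  | .e => 3
  | .f => 4
  | .g => 5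
  | .h => 6
  | .i => 7

/-- the images of the generators. -/
def f0 (x : FiQ1.Gen) : IsoG := gO (idx x)

theorem pair_pow (i j k : ℕ) (h : (evN (List.replicate k [i, j]).flatten).beq M7.one = true) :
    (gO i * gO j) ^ k = 1 := by
  have h1 := evG_eq_one h
  rw [evG_replicate] at h1
  simpa [evG] using h1

theorem coxO (x y : FiQ1.Gen) : (f0 x * f0 y) ^ coxLabel FiQ1.edges x y = 1 := by
  cases x <;> cases y <;> exact pair_pow _ _ _ (by decide +kernel)

theorem ex1 : evG [2, 1, 0, 2, 3, 4, 2, 6, 7] ^ 10 = 1 := by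
  rw [← evG_replicate]
  exact evG_eq_one (by decide +kernel)

theorem ex2 : evG [0, 1, 2, 3, 4, 5, 6] ^ 9 = 1 := by
  rw [← evG_replicate]
  exact evG_eq_one (by decide +kernel)

theorem rel0 : ∀ r ∈ FiQ1TC.Rels, FreeGroup.lift f0 r = 1 := by
  intro r hr
  rcases hr with ⟨x, _, y, _, rfl⟩ | hr
  · rw [map_pow, map_mul, FreeGroup.lift_apply_of, FreeGroup.lift_apply_of]
    exact coxO x y
  · simp only [Set.mem_setOf_eq, FiQ1.extra, List.mem_cons, List.mem_singleton, List.not_mem_nil,
      or_false] at hr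
    rcases hr with rfl | rfl
    · have h := ex1
      simp only [map_pow, map_mul, FreeGroup.lift_apply_of]
      simpa [evG, f0, idx, mul_assoc] using h
    · have h := ex2
      simp only [map_pow, map_mul, FreeGroup.lift_apply_of]
      simpa [evG, f0, idx, mul_assoc] using h

/-- the homomorphism to the isometry group. -/
def psi0 : FiQ1TC.G →* IsoG := PresentedGroup.toGroup rel0

theorem psi0_of (x : FiQ1.Gen) : psi0 (PresentedGroup.of x) = f0 x :=
  PresentedGroup.toGroup.of rel0

theorem card_not_prime : ¬ (Nat.card FiQ1TC.G).Prime := by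
  rw [FiQ1Ord.card_G]
  norm_num

theorem commutator_eq_top : commutator FiQ1TC.G = ⊤ := by
  haveI := FiQ1Ord.isSimple
  haveI := FiQ1Ord.finG
  rcases (inferInstance : (commutator FiQ1TC.G).Normal).eq_bot_or_eq_top with h | h
  · exfalso
    rw [commutator_eq_bot_iff_center_eq_top] at h
    letI := Group.commGroupOfCenterEqTop h
    exact card_not_prime (IsSimpleGroup.prime_card (α := FiQ1TC.G))
  · exact h

theorem psi0_mem (g : FiQ1TC.G) : psi0 g ∈ commutator IsoG := by
  have hg : g ∈ commutator FiQ1TC.G := by rw [commutator_eq_top]; trivial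
  rw [commutator_def] at hg
  have h1 : psi0 g ∈ Subgroup.map psi0 ⁅(⊤ : Subgroup FiQ1TC.G), (⊤ : Subgroup FiQ1TC.G)⁆ :=
    Subgroup.mem_map_of_mem _ hg
  rw [Subgroup.map_commutator] at h1
  rw [commutator_def]
  exact Subgroup.commutator_mono le_top le_top h1

/-- the homomorphism to `Ω₇(3)`. -/
def psi1 : FiQ1TC.G →* ↥(Cfsg.Omega (ZMod 3) (Cfsg.quadFormOdd 3 (ZMod 3))) :=
  psi0.codRestrict _ psi0_mem

/-- the homomorphism to `PΩ₇(3)`. -/
def psi2 : FiQ1TC.G →* Cfsg.POmega (ZMod 3) (Cfsg.quadFormOdd 3 (ZMod 3)) :=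
  (QuotientGroup.mk' _).comp psi1

theorem psi2_ker : psi2.ker = ⊥ := by
  haveI := FiQ1Ord.isSimple
  rcases (inferInstance : psi2.ker.Normal).eq_bot_or_eq_top with h | h
  · exact h
  · exfalso
    have hc : ∀ g : FiQ1TC.G,
        psi1 g ∈ Subgroup.center ↥(Cfsg.Omega (ZMod 3) (Cfsg.quadFormOdd 3 (ZMod 3))) := by
      intro g
      have hg : g ∈ psi2.ker := by rw [h]; trivial
      rw [MonoidHom.mem_ker] at hg
      exact (QuotientGroup.eq_one_iff _).mp hg
    have hk : commutator FiQ1TC.G ≤ psi1.ker := by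
      rw [commutator_def, Subgroup.commutator_le]
      intro a _ b _
      rw [MonoidHom.mem_ker, map_commutatorElement, commutatorElement_eq_one_iff_commute]
      exact ((Subgroup.mem_center_iff.mp (hc a)) (psi1 b)).symm
    rw [commutator_eq_top] at hk
    have h1 : psi1 (PresentedGroup.of FiQ1.Gen.b) = 1 := by
      rw [← MonoidHom.mem_ker]; exact hk trivial
    have h2 : psi0 (PresentedGroup.of FiQ1.Gen.b) = 1 := by
      have := congrArg Subtype.val h1
      exact this
    rw [psi0_of] at h2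
    exact gO_ne_one h2

theorem psi2_inj : Function.Injective psi2 := (MonoidHom.ker_eq_bot_iff psi2).mp psi2_ker

theorem card_POmega :
    Nat.card (Cfsg.POmega (ZMod 3) (Cfsg.quadFormOdd 3 (ZMod 3))) = 4585351680 := by
  have h := Cfsg.Agent.S0292.result (F := ZMod 3) (q := 3) (ZMod.card 3) (by decide) 3 le_rfl
  have h2 : (3 : ℕ) ^ (3 ^ 2) * ∏ i ∈ Finset.range 3, (3 ^ (2 * (i + 1)) - 1) = 9170703360 := by
    decide
  rw [h2] at h
  omega

theorem psi2_bij : Function.Bijective psi2 := by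
  haveI : Finite (Cfsg.POmega (ZMod 3) (Cfsg.quadFormOdd 3 (ZMod 3))) := by
    apply Nat.finite_of_card_ne_zero
    rw [card_POmega]; norm_num
  apply psi2_inj.bijective_of_nat_card_le
  rw [card_POmega, FiQ1Ord.card_G]

/-- the sub-presentation is `PΩ₇(3)`. -/
def eO : FiQ1TC.G ≃* Cfsg.POmega (ZMod 3) (Cfsg.quadFormOdd 3 (ZMod 3)) :=
  MulEquiv.ofBijective psi2 psi2_bij

/-! ### the subgroup of `Fi₂₂` -/

theorem card_Hs : Nat.card Fi22bTC.Hs = 4585351680 := by
  have h1 := Fi22Ord.card_G_eq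
  rw [Fi22Ord.card_G] at h1
  omega

/-- the surjection of the sub-presentation onto the subgroup. -/
def gH : FiQ1TC.G →* Fi22bTC.Hs :=
  Fi22Ord.phi1.codRestrict Fi22bTC.Hs (fun x => by rw [Fi22Ord.range1]; exact ⟨x, rfl⟩)

theorem gH_surj : Function.Surjective gH := by
  rintro ⟨y, hy⟩
  have hy' : y ∈ Fi22Ord.phi1.range := Fi22Ord.range1 ▸ hy
  obtain ⟨x, hx⟩ := hy'
  exact ⟨x, Subtype.ext hx⟩

theorem gH_bij : Function.Bijective gH := by
  haveI := FiQ1Ord.finG
  apply gH_surj.bijective_of_nat_card_le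
  rw [card_Hs, FiQ1Ord.card_G]

/-- the subgroup `⟨b, …, i⟩` of the presented `Fi₂₂` is the sub-presentation. -/
def eH : FiQ1TC.G ≃* Fi22bTC.Hs := MulEquiv.ofBijective gH gH_bij

/-- the subgroup `⟨b, …, i⟩` of the presented `Fi₂₂` is `PΩ₇(3)`. -/
def eHO : Fi22bTC.Hs ≃* Cfsg.POmega (ZMod 3) (Cfsg.quadFormOdd 3 (ZMod 3)) :=
  eH.symm.trans eO

end Cfsg.Agent.Helper17.O73
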